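import Cfsg.Agent.OrdDiv.Table
import Cfsg.Agent.H264.FKS.Res
import Cfsg.Prelude.Def_LieTypeChar

/-!
# The name of a simple group of Lie type in characteristic `p` (helper109)

`exists_named` : `IsLieTypeChar p S` gives a name `g` with `IsNamed g S` and `HasChar p g`.
-/

set_option autoImplicit false

namespace Cfsg.Agent.H109.O8

open Cfsg Cfsg.Agent.OrdDiv Cfsg.Agent.H436 Cfsg.Agent.H915.GN

universe u

theorem card_pow {F : Type} [Field F] [Fintype F] {p : ℕ} [CharP F p] : ∃ f, Fintype.card F = p ^ f := by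
  obtain ⟨n, -, hn⟩ := FiniteField.card F p
  exact ⟨_, hn⟩

theorem root_pow {p q k f : ℕ} (hp : p.Prime) (hk : k ≠ 0) (h : q ^ k = p ^ f) : ∃ f, q = p ^ f := by
  have h1 : q ∣ p ^ f := by rw [← h]; exact dvd_pow_self q hk
  obtain ⟨i, -, hi⟩ := (Nat.dvd_prime_pow hp).1 h1
  exact ⟨i, hi⟩

/-- **The name of a group of Lie type in characteristic `p`.** -/
theorem exists_named {p : ℕ} (hp : p.Prime) {S : Type u} [Group S] (h : IsLieTypeChar p S) :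
    ∃ g, IsNamed g S ∧ HasChar p g := by
  have T := OrdDiv.table.{u}
  rcases h with h | h | h | h | h | h | h | h | h | h | h
  · obtain ⟨F, _, _, _, n, hn, hn2, ⟨e⟩⟩ := h
    refine ⟨.psl n (Fintype.card F), .mk' ⟨F, inferInstance, inferInstance, rfl, ⟨e⟩⟩
      ⟨hn, hn2, Fintype.isPrimePow_card_of_field⟩ ?_, card_pow⟩
    rw [Nat.card_congr e.toEquiv]
    exact psl_eq hn
  · obtain ⟨F, _, _, _, n, hn, hn2, ⟨e⟩⟩ := h
    refine ⟨.psp n (Fintype.card F), .mk' ⟨F, inferInstance, inferInstance, rfl, ⟨e⟩⟩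
      ⟨hn, hn2, Fintype.isPrimePow_card_of_field⟩ ?_, card_pow⟩
    rw [Nat.card_congr e.toEquiv]
    exact psp_eq hn
  · obtain ⟨F, _, _, _, n, q, hF, hn, hn2, ⟨e⟩⟩ := h
    have hq2 : IsPrimePow (q ^ 2) := hF ▸ Fintype.isPrimePow_card_of_field
    have hqp : IsPrimePow q := (isPrimePow_pow_iff (by norm_num)).1 hq2
    obtain ⟨f, hf⟩ := card_pow (F := F) (p := p)
    refine ⟨.psu n q, .mk' ⟨F, inferInstance, inferInstance, hF, ⟨e⟩⟩ ⟨hn, hn2, hqp⟩ ?_,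
      root_pow hp two_ne_zero (hF.symm.trans hf)⟩
    rw [Nat.card_congr e.toEquiv]
    exact psu_eq hF hn
  · obtain ⟨F, _, _, _, n, hn, ho, ⟨e⟩⟩ := h
    refine ⟨.oodd n (Fintype.card F), .mk' ⟨F, inferInstance, inferInstance, rfl, ⟨e⟩⟩
      ⟨hn, ho, Fintype.isPrimePow_card_of_field⟩ ?_, card_pow⟩
    rw [Nat.card_congr e.toEquiv]
    exact oodd_eq hn ho
  · obtain ⟨F, _, _, _, n, hn, ⟨e⟩⟩ := h
    refine ⟨.oplus n (Fintype.card F), .mk' ⟨F, inferInstance, inferInstance, rfl, ⟨e⟩⟩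
      ⟨hn, Fintype.isPrimePow_card_of_field⟩ ?_, card_pow⟩
    rw [Nat.card_congr e.toEquiv]
    exact oplus_eq hn
  · obtain ⟨F, _, _, _, n, a, b, hn, hab, ⟨e⟩⟩ := h
    refine ⟨.ominus n (Fintype.card F), .mk' ⟨F, inferInstance, inferInstance, a, b, rfl, hab, ⟨e⟩⟩
      ⟨hn, Fintype.isPrimePow_card_of_field⟩ ?_, card_pow⟩
    rw [Nat.card_congr e.toEquiv]
    exact ominus_eq hn hab
  · obtain ⟨F, _, _, _, ⟨hq, ⟨e⟩⟩ | ⟨⟨e⟩⟩ | ⟨⟨e⟩⟩ | ⟨⟨e⟩⟩ | ⟨⟨e⟩⟩⟩ := h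
    · refine ⟨.g2 (Fintype.card F), .mk' ⟨F, inferInstance, inferInstance, rfl, ⟨e⟩⟩
        ⟨hq, Fintype.isPrimePow_card_of_field⟩ ?_, card_pow⟩
      rw [Nat.card_congr e.toEquiv]
      change 1 * _ = _ ^ 6 * _
      rw [T.g2 F]; ring
    · refine ⟨.f4 (Fintype.card F), .mk' ⟨F, inferInstance, inferInstance, rfl, ⟨e⟩⟩
        Fintype.isPrimePow_card_of_field ?_, card_pow⟩
      rw [Nat.card_congr e.toEquiv]
      change 1 * _ = _ ^ 24 * _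
      rw [T.f4 F _ rfl]; ring
    · refine ⟨.e6 (Fintype.card F), .mk' ⟨F, inferInstance, inferInstance, rfl, ⟨e⟩⟩
        Fintype.isPrimePow_card_of_field ?_, card_pow⟩
      rw [Nat.card_congr e.toEquiv]
      change Nat.gcd 3 (Fintype.card F - 1) * _ = _ ^ 36 * _
      rw [T.e6 F _ rfl]; ring
    · refine ⟨.e7 (Fintype.card F), .mk' ⟨F, inferInstance, inferInstance, rfl, ⟨e⟩⟩
        Fintype.isPrimePow_card_of_field ?_, card_pow⟩
      rw [Nat.card_congr e.toEquiv]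
      change Nat.gcd 2 (Fintype.card F - 1) * _ = _ ^ 63 * _
      rw [T.e7 F _ rfl]; ring
    · refine ⟨.e8 (Fintype.card F), .mk' ⟨F, inferInstance, inferInstance, rfl, ⟨e⟩⟩
        Fintype.isPrimePow_card_of_field ?_, card_pow⟩
      rw [Nat.card_congr e.toEquiv]
      change 1 * _ = _ ^ 120 * _
      rw [T.e8 F _ rfl]; ring
  · obtain ⟨F, _, _, _, q, hq, ⟨hF, ⟨e⟩⟩ | ⟨hF, ⟨e⟩⟩⟩ := h
    · obtain ⟨f, hf⟩ := card_pow (F := F) (p := p)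
      refine ⟨.te6 q, .mk' ⟨F, inferInstance, inferInstance, hF, ⟨e⟩⟩ hq ?_,
        root_pow hp two_ne_zero (hF.symm.trans hf)⟩
      rw [Nat.card_congr e.toEquiv]
      change Nat.gcd 3 (q + 1) * _ = _ ^ 36 * _
      rw [T.te6 F q hq hF]; ring
    · obtain ⟨f, hf⟩ := card_pow (F := F) (p := p)
      refine ⟨.td4 q, .mk' ⟨F, inferInstance, inferInstance, hF, ⟨e⟩⟩ hq ?_,
        root_pow hp three_ne_zero (hF.symm.trans hf)⟩
      rw [Nat.card_congr e.toEquiv]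
      change 1 * _ = _ ^ 12 * _
      rw [T.td4 F q hq hF]; ring
  · obtain ⟨rfl, F, _, _, m, hm, hF, ⟨e⟩⟩ := h
    refine ⟨.sz (2 ^ (2 * m + 1)), .mk' ⟨F, inferInstance, inferInstance, m, hm, hF, rfl, ⟨e⟩⟩
      ⟨m, hm, rfl⟩ ?_, ⟨_, rfl⟩⟩
    rw [Nat.card_congr e.toEquiv]
    change 1 * _ = _ ^ 2 * _
    rw [T.sz F m hm hF]; ring
  · obtain ⟨rfl, F, _, _, m, hm, hF, ⟨e⟩⟩ := h
    refine ⟨.tf4 (2 ^ (2 * m + 1)), .mk' ⟨F, inferInstance, inferInstance, m, hm, hF, rfl, ⟨e⟩⟩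
      ⟨m, hm, rfl⟩ ?_, ⟨_, rfl⟩⟩
    rw [Nat.card_congr e.toEquiv]
    change 1 * _ = _ ^ 12 * _
    rw [T.tf4 F m hm hF]; ring
  · obtain ⟨rfl, F, _, _, m, hm, hF, ⟨e⟩⟩ := h
    refine ⟨.ree (3 ^ (2 * m + 1)), .mk' ⟨F, inferInstance, inferInstance, m, hm, hF, rfl, ⟨e⟩⟩
      ⟨m, hm, rfl⟩ ?_, ⟨_, rfl⟩⟩
    rw [Nat.card_congr e.toEquiv]
    change 1 * _ = _ ^ 3 * _
    rw [T.ree F m hm hF]; ring

end Cfsg.Agent.H109.O8
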