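import Cfsg.Agent.H264.FKS.Res
import Cfsg.Agent.H902.Zs
import Cfsg.Agent.H708.O8.Defs

/-!
# `PΩ⁺₈(q)`: the primitive prime `r` in the orders of the groups of Lie type in characteristic `p` (helper109)

`num_not_dvd` : `X(p ^ c)` a group of Lie type whose order divides the order of `PΩ⁺₈(p ^ a)`, `r` a primitive prime divisor
of `p ^ (4 a) - 1`, `r ^ b` the exact power dividing `p ^ (2 a) + 1`: `r ^ (b + 1)` does not divide the order of `X(p ^ c)`
unless `X(p ^ c)` is `D₄(p ^ a)`.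
-/

set_option autoImplicit false

namespace Cfsg.Agent.H109.O8

open Finset Cfsg Cfsg.Agent.H902 Cfsg.Agent.H902.Art Cfsg.Agent.H708.O8
open Cfsg.Agent.H436 (Prim exists_prim)

variable {p a r b c M N : ℕ} {X : Art.Sh}

theorem order_of_prim {e l : ℕ} (hp : p.Prime) (h : Prim p e l) : orderOf (p : ZMod l) = e := by
  have h1 : ∀ m, orderOf (p : ZMod l) ∣ m ↔ e ∣ m := fun m => by
    have h2 := Art.dvd_iff (f := 1) (r := l) hp m
    rw [pow_one, one_mul] at h2
    rw [← h2, h.dvd_iff]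
  exact Nat.dvd_antisymm ((h1 e).2 dvd_rfl) ((h1 _).1 dvd_rfl)

/-- **The largest exponent is at most `6 a`.** -/
theorem bound (hT : Art.Real (.D 4) p a N) (hX : Art.Real X p c M) (hd : M ∣ N) : c * DM X ≤ 6 * a := by
  by_contra hcon
  push Not at hcon
  have ha := hT.hf
  have hp := hT.hp
  obtain ⟨l, hl⟩ := exists_prim (q := p) (e := c * DM X) hp.two_le (by omega) (by rintro ⟨-, h6⟩; omega)
  have ho := order_of_prim hp hl
  have h1 : l ∣ M := hX.dvd_of_order_DM hl.prime ho (by omega)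
  have hne : l ≠ p := by
    rintro rfl
    exact hl.not_dvd dvd_rfl
  rcases hT.order_cases hl.prime hne (h1.trans hd) with h2 | ⟨e, h3, h4, h5⟩
  · rw [ho] at h2
    have h6 : DM (.D 4) = 6 := rfl
    rw [h6] at h2
    have := Nat.le_of_dvd (by omega) h2
    omega
  · rw [ho] at h5
    have h6 : BM (.D 4) = 4 := rfl
    rw [h6] at h4
    have h7 := Nat.le_of_dvd (Nat.mul_pos (by omega) (by omega)) h5
    have h8 : a * e ≤ a * 4 := Nat.mul_le_mul_left _ h4
    omega

theorem top_not_dvd (h : RB p a r b) : ¬ r ^ (b + 1) ∣ p ^ (4 * a) - 1 := by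
  intro h1
  have ha := h.ha
  apply h.not_dvd
  have h2 : p ^ (4 * a) - 1 = (p ^ (2 * a) - 1) * (p ^ (2 * a) + 1) := by
    have h3 : p ^ (4 * a) = p ^ (2 * a) * p ^ (2 * a) := by rw [← pow_add]; congr 1; omega
    obtain ⟨t, ht⟩ := Nat.exists_eq_add_of_le' (Nat.one_le_pow (2 * a) p h.hp.pos)
    rw [h3, ht, Nat.add_sub_cancel]
    have : (t + 1) * (t + 1) = t * (t + 1 + 1) + 1 := by ring
    rw [this, Nat.add_sub_cancel]
  rw [h2] at h1
  have h4 : ¬ r ∣ p ^ (2 * a) - 1 := by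
    intro h5
    have := Nat.le_of_dvd (by omega) ((h.prim.dvd_iff _).1 h5)
    omega
  exact (Nat.Coprime.pow_left _ ((Nat.Prime.coprime_iff_not_dvd h.prim.prime).2 h4)).dvd_of_dvd_mul_left h1

theorem exp_eq (h : RB p a r b) {j x : ℕ} (h1 : 1 ≤ j) (h6 : j ≤ 6 * a) (hx : x ∣ p ^ j - 1) (hr : r ∣ x) :
    j = 4 * a := by
  have ha := h.ha
  obtain ⟨k, hk⟩ := (h.prim.dvd_iff _).1 (hr.trans hx)
  have hk1 : k = 1 := by
    rcases (show k = 0 ∨ k = 1 ∨ 2 ≤ k by omega) with h2 | h2 | h2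
    · rw [h2] at hk; omega
    · exact h2
    · exfalso
      have : 4 * a * 2 ≤ 4 * a * k := Nat.mul_le_mul_left _ h2
      omega
  rw [hk, hk1, mul_one]

/-- **At most one exponent is `4 a`.** -/
theorem prod_not_dvd (h : RB p a r b) (s : Finset ℕ) (f j : ℕ → ℕ) (hdv : ∀ i ∈ s, f i ∣ p ^ j i - 1)
    (h1 : ∀ i ∈ s, 1 ≤ j i) (h6 : ∀ i ∈ s, j i ≤ 6 * a)
    (hinj : ∀ i ∈ s, ∀ i' ∈ s, j i = 4 * a → j i' = 4 * a → i = i') : ¬ r ^ (b + 1) ∣ ∏ i ∈ s, f i := by
  have hr := h.prim.prime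
  intro hd
  by_cases hex : ∃ i ∈ s, j i = 4 * a
  · obtain ⟨i, hi, hj⟩ := hex
    rw [← Finset.mul_prod_erase s f hi] at hd
    have hnd : ¬ r ∣ ∏ x ∈ s.erase i, f x := by
      intro h2
      obtain ⟨x, hx, h3⟩ := (Prime.dvd_finset_prod_iff hr.prime _).1 h2
      have hxs := Finset.mem_of_mem_erase hx
      exact Finset.ne_of_mem_erase hx (hinj x hxs i hi (exp_eq h (h1 x hxs) (h6 x hxs) (hdv x hxs) h3) hj)
    have h2 := (Nat.Coprime.pow_left (b + 1) ((Nat.Prime.coprime_iff_not_dvd hr).2 hnd)).dvd_of_dvd_mul_right hd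
    have h3 := h2.trans (hdv i hi)
    rw [hj] at h3
    exact top_not_dvd h h3
  · obtain ⟨x, hx, h3⟩ := (Prime.dvd_finset_prod_iff hr.prime _).1 ((dvd_pow_self r (by omega)).trans hd)
    exact hex ⟨x, hx, exp_eq h (h1 x hx) (h6 x hx) (hdv x hx) h3⟩

/-- lists of pairs (factor, exponent) -/
theorem list_not_dvd (h : RB p a r b) (L : List (ℕ × ℕ)) (hdv : ∀ x ∈ L, x.1 ∣ p ^ x.2 - 1)
    (h1 : ∀ x ∈ L, 1 ≤ x.2) (h6 : ∀ x ∈ L, x.2 ≤ 6 * a) (hnd : (L.map Prod.snd).Nodup) :
    ¬ r ^ (b + 1) ∣ (L.map Prod.fst).prod := by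
  have hr := h.prim.prime
  induction L with
  | nil =>
    intro h2
    rw [List.map_nil, List.prod_nil, Nat.dvd_one] at h2
    exact hr.one_lt.ne' ((Nat.pow_eq_one.1 h2).resolve_right (by omega))
  | cons x L ih =>
    rw [List.map_cons, List.nodup_cons] at hnd
    rw [List.map_cons, List.prod_cons]
    have ih' := ih (fun y hy => hdv y (List.mem_cons_of_mem _ hy)) (fun y hy => h1 y (List.mem_cons_of_mem _ hy))
      (fun y hy => h6 y (List.mem_cons_of_mem _ hy)) hnd.2
    have hx := List.mem_cons_self (a := x) (l := L)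
    intro hd
    by_cases hj : x.2 = 4 * a
    · have h2 : ¬ r ∣ (L.map Prod.fst).prod := by
        intro h3
        obtain ⟨y, hy, h4⟩ := (Prime.dvd_prod_iff hr.prime).1 h3
        obtain ⟨z, hz, rfl⟩ := List.mem_map.1 hy
        have hz' := List.mem_cons_of_mem x hz
        apply hnd.1
        rw [hj, ← exp_eq h (h1 z hz') (h6 z hz') (hdv z hz') h4]
        exact List.mem_map.2 ⟨z, hz, rfl⟩
      have h3 := (Nat.Coprime.pow_left (b + 1) ((Nat.Prime.coprime_iff_not_dvd hr).2 h2)).dvd_of_dvd_mul_right hd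
      have h4 := h3.trans (hdv x hx)
      rw [hj] at h4
      exact top_not_dvd h h4
    · have h2 : ¬ r ∣ x.1 := fun h3 => hj (exp_eq h (h1 x hx) (h6 x hx) (hdv x hx) h3)
      exact ih' ((Nat.Coprime.pow_left (b + 1) ((Nat.Prime.coprime_iff_not_dvd hr).2 h2)).dvd_of_dvd_mul_left hd)

theorem sub_dvd (k : ℕ) : (p ^ c) ^ k - 1 ∣ p ^ (c * k) - 1 := by rw [pow_mul]

theorem add_dvd (hp : p.Prime) (k : ℕ) : (p ^ c) ^ k + 1 ∣ p ^ (c * (2 * k)) - 1 := by
  rw [pow_mul]
  exact pow_add_one_dvd (Nat.one_le_pow _ _ hp.pos)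

theorem sub_one_dvd : p ^ c - 1 ∣ p ^ (c * 1) - 1 := by rw [mul_one]

theorem eight_dvd (hp : p.Prime) : (p ^ c) ^ 8 + (p ^ c) ^ 4 + 1 ∣ p ^ (c * 12) - 1 := by
  rw [pow_mul]
  obtain ⟨t, ht⟩ := Nat.exists_eq_add_of_le' (Nat.one_le_pow c p hp.pos)
  have h1 : 1 ≤ (p ^ c) ^ 4 := Nat.one_le_pow _ _ (pow_pos hp.pos _)
  refine ⟨(p ^ c) ^ 4 - 1, ?_⟩
  obtain ⟨s, hs⟩ := Nat.exists_eq_add_of_le' h1
  have h2 : (p ^ c) ^ 8 = ((p ^ c) ^ 4) ^ 2 := pow_mul _ 4 2
  have h3 : (p ^ c) ^ 12 = ((p ^ c) ^ 4) ^ 3 := pow_mul _ 4 3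
  rw [h2, h3, hs, Nat.add_sub_cancel]
  have h4 : (s + 1) ^ 3 = ((s + 1) ^ 2 + (s + 1) + 1) * s + 1 := by ring
  rw [h4, Nat.add_sub_cancel]

/-- **The `r`-part of the order.** -/
theorem num_not_dvd (h : RB p a r b) (hT : Art.Real (.D 4) p a N) (hX : Art.Real X p c M) (hd : M ∣ N)
    (hne : ¬ (X = .D 4 ∧ c = a)) : ¬ r ^ (b + 1) ∣ num X (p ^ c) := by
  have hb := bound hT hX hd
  have hp := hX.hp
  have hc := hX.hf
  have ha := h.ha
  have hok := hX.ok
  have hmul : ∀ {k m : ℕ}, k ≤ m → c * k ≤ c * m := fun hk => Nat.mul_le_mul_left c hk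
  have hpos : ∀ {k : ℕ}, 1 ≤ k → 1 ≤ c * k := fun hk => Nat.mul_pos hc hk
  have hcan : ∀ {k m : ℕ}, c * k = c * m → k = m := fun hk => Nat.eq_of_mul_eq_mul_left hc hk
  -- explicit lists
  have key : ∀ (m : ℕ) (L : List (ℕ × ℕ)), c * m ≤ 6 * a → (∀ x ∈ L, x.1 ∣ p ^ (c * x.2) - 1) →
      (∀ x ∈ L, 1 ≤ x.2 ∧ x.2 ≤ m) → (L.map Prod.snd).Nodup → ¬ r ^ (b + 1) ∣ (L.map Prod.fst).prod := by
    intro m L hm h1 h2 h3
    have h4 := list_not_dvd h (L.map fun x => (x.1, c * x.2)) (by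
      intro y hy
      obtain ⟨x, hx, rfl⟩ := List.mem_map.1 hy
      exact h1 x hx) (by
      intro y hy
      obtain ⟨x, hx, rfl⟩ := List.mem_map.1 hy
      exact hpos (h2 x hx).1) (by
      intro y hy
      obtain ⟨x, hx, rfl⟩ := List.mem_map.1 hy
      exact (hmul (h2 x hx).2).trans hm) (by
      rw [List.map_map]
      have h5 : (Prod.snd ∘ fun x : ℕ × ℕ => (x.1, c * x.2)) = (fun k => c * k) ∘ Prod.snd := rfl
      rw [h5, ← List.map_map]
      exact h3.map fun k m hk => hcan hk)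
    rw [List.map_map] at h4
    exact h4
  cases X with
  | L n =>
    refine prod_not_dvd h _ _ (fun i => c * (i + 2)) (fun i _ => sub_dvd _) (fun i _ => hpos (by omega))
      (fun i hi => (hmul ?_).trans hb) (fun i _ i' _ h1 h2 => ?_)
    · rw [Finset.mem_range] at hi
      show i + 2 ≤ n
      omega
    · have := hcan (h1.trans h2.symm)
      omega
  | C m =>
    refine prod_not_dvd h _ _ (fun i => c * (2 * (i + 1))) (fun i _ => sub_dvd _) (fun i _ => hpos (by omega))
      (fun i hi => (hmul ?_).trans hb) (fun i _ i' _ h1 h2 => ?_)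
    · rw [Finset.mem_range] at hi
      show 2 * (i + 1) ≤ 2 * m
      omega
    · have := hcan (h1.trans h2.symm)
      omega
  | U n =>
    have hn : 3 ≤ n := hok.1
    have hDM : 2 * (n - 1) ≤ DM (.U n) ∧ (¬ Even n → 2 * n ≤ DM (.U n)) := by
      show 2 * (n - 1) ≤ (if Even n then 2 * (n - 1) else 2 * n) ∧
        (¬ Even n → 2 * n ≤ (if Even n then 2 * (n - 1) else 2 * n))
      split_ifs with h1
      · exact ⟨le_rfl, fun h2 => absurd h1 h2⟩
      · exact ⟨by omega, fun _ => le_rfl⟩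
    refine prod_not_dvd h _ _ (fun i => c * (if Even i then i + 2 else 2 * (i + 2))) (fun i _ => ?_) (fun i _ => ?_)
      (fun i hi => (hmul ?_).trans hb) (fun i hi i' hi' h1 h2 => ?_)
    · split_ifs with h1
      · exact sub_dvd _
      · exact add_dvd hp _
    · exact hpos (by split_ifs <;> omega)
    · rw [Finset.mem_range] at hi
      split_ifs with h1
      · omega
      · by_cases h2 : Even n
        · have h3 : i + 2 ≠ n := by
            rintro rfl
            exact h1 (by simpa [Nat.even_add] using h2)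
          omega
        · have := hDM.2 h2
          omega
    · rw [Finset.mem_range] at hi hi'
      have h3 := hcan (h1.trans h2.symm)
      have hbb : c * (2 * (n - 1)) ≤ 6 * a := (hmul hDM.1).trans hb
      have main : ∀ u v : ℕ, ¬ Even u → 1 ≤ u → v + 2 ≤ n → v + 2 = 2 * (u + 2) → c * (v + 2) = 4 * a → False := by
        intro u v _ hu hv huv hcv
        obtain ⟨t, ht⟩ := Nat.exists_eq_add_of_le hv
        have h4 : c * (2 * (v + 1)) ≤ 6 * a := (hmul (by omega)).trans hbb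
        have h5 : c * (2 * (v + 1)) + 2 * c = 2 * (c * (v + 2)) := by ring
        have h6 : c * 6 ≤ c * (v + 2) := hmul (by omega)
        omega
      have hodd : ∀ u : ℕ, ¬ Even u → 1 ≤ u := fun u hu => by
        rcases Nat.eq_zero_or_pos u with rfl | h4
        · exact absurd Even.zero hu
        · exact h4
      by_cases e1 : Even i <;> by_cases e2 : Even i'
      · rw [if_pos e1, if_pos e2] at h3
        omega
      · exfalso
        rw [if_pos e1, if_neg e2] at h3
        rw [if_pos e1] at h1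
        exact main i' i e2 (hodd _ e2) (by omega) h3 h1
      · exfalso
        rw [if_neg e1, if_pos e2] at h3
        rw [if_pos e2] at h2
        exact main i i' e1 (hodd _ e1) (by omega) h3.symm h2
      · rw [if_neg e1, if_neg e2] at h3
        omega
  | D m =>
    have hm : 4 ≤ m := hok
    have hDM : c * (2 * (m - 1)) ≤ 6 * a := hb
    have hprod : num (.D m) (p ^ c) = ∏ i ∈ range ((m - 1) + 1),
        (if i = m - 1 then (p ^ c) ^ m - 1 else (p ^ c) ^ (2 * (i + 1)) - 1) := by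
      rw [prod_range_succ, if_pos rfl, mul_comm]
      show _ * _ = _ * _
      congr 1
      refine prod_congr rfl fun i hi => ?_
      rw [if_neg (Finset.mem_range.1 hi).ne]
    rw [hprod]
    refine prod_not_dvd h _ _ (fun i => c * (if i = m - 1 then m else 2 * (i + 1))) (fun i _ => ?_) (fun i _ => ?_)
      (fun i hi => ?_) (fun i hi i' hi' h1 h2 => ?_)
    · split_ifs <;> exact sub_dvd _
    · exact hpos (by split_ifs <;> omega)
    · rw [Finset.mem_range] at hi
      refine (hmul ?_).trans hDM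
      split_ifs <;> omega
    · rw [Finset.mem_range] at hi hi'
      have h3 := hcan (h1.trans h2.symm)
      have main : ∀ u : ℕ, u + 1 ≤ m - 1 → m = 2 * (u + 1) → c * m = 4 * a → False := by
        intro u hu hmu hcm
        have h5 : c * (2 * (m - 1)) + 2 * c = 2 * (c * m) := by
          obtain ⟨t, rfl⟩ := Nat.exists_eq_add_of_le' (show 1 ≤ m by omega)
          rw [Nat.add_sub_cancel]
          ring
        have hac : a ≤ c := by omega
        have h6 : c * m ≤ c * 4 := by omega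
        have h7 : m ≤ 4 := Nat.le_of_mul_le_mul_left h6 hc
        have h8 : m = 4 := by omega
        subst h8
        exact hne ⟨rfl, by omega⟩
      by_cases e1 : i = m - 1 <;> by_cases e2 : i' = m - 1
      · omega
      · exfalso
        rw [if_pos e1, if_neg e2] at h3
        rw [if_pos e1] at h1
        exact main i' (by omega) h3 h1
      · exfalso
        rw [if_neg e1, if_pos e2] at h3
        rw [if_pos e2] at h2
        exact main i (by omega) h3.symm h2
      · rw [if_neg e1, if_neg e2] at h3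
        omega
  | DD m =>
    have hm : 4 ≤ m := hok
    have hDM : c * (2 * m) ≤ 6 * a := hb
    have hprod : num (.DD m) (p ^ c) = ∏ i ∈ range ((m - 1) + 1),
        (if i = m - 1 then (p ^ c) ^ m + 1 else (p ^ c) ^ (2 * (i + 1)) - 1) := by
      rw [prod_range_succ, if_pos rfl, mul_comm]
      show _ * _ = _ * _
      congr 1
      refine prod_congr rfl fun i hi => ?_
      rw [if_neg (Finset.mem_range.1 hi).ne]
    rw [hprod]
    refine prod_not_dvd h _ _ (fun i => c * (2 * (i + 1))) (fun i _ => ?_) (fun i _ => hpos (by omega))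
      (fun i hi => ?_) (fun i hi i' hi' h1 h2 => ?_)
    · split_ifs with h1
      · have h2 : i + 1 = m := by omega
        rw [h2]
        exact add_dvd hp _
      · exact sub_dvd _
    · rw [Finset.mem_range] at hi
      exact (hmul (by omega)).trans hDM
    · have := hcan (h1.trans h2.symm)
      omega
  | G2 =>
    have h1 := key 6 [((p ^ c) ^ 2 - 1, 2), ((p ^ c) ^ 6 - 1, 6)] hb (by
      simp only [List.forall_mem_cons, List.not_mem_nil, false_imp_iff, implies_true, and_true]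
      exact ⟨sub_dvd _, sub_dvd _⟩) (by simp) (by simp only [List.map_cons, List.map_nil]; decide)
    simpa [num, mul_assoc] using h1
  | F4 =>
    have h1 := key 12 [((p ^ c) ^ 2 - 1, 2), ((p ^ c) ^ 6 - 1, 6), ((p ^ c) ^ 8 - 1, 8), ((p ^ c) ^ 12 - 1, 12)] hb (by
      simp only [List.forall_mem_cons, List.not_mem_nil, false_imp_iff, implies_true, and_true]
      exact ⟨sub_dvd _, sub_dvd _, sub_dvd _, sub_dvd _⟩) (by simp) (by simp only [List.map_cons, List.map_nil]; decide)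
    simpa [num, mul_assoc] using h1
  | E6 =>
    have h1 := key 12 [((p ^ c) ^ 2 - 1, 2), ((p ^ c) ^ 5 - 1, 5), ((p ^ c) ^ 6 - 1, 6), ((p ^ c) ^ 8 - 1, 8),
        ((p ^ c) ^ 9 - 1, 9), ((p ^ c) ^ 12 - 1, 12)] hb (by
      simp only [List.forall_mem_cons, List.not_mem_nil, false_imp_iff, implies_true, and_true]
      exact ⟨sub_dvd _, sub_dvd _, sub_dvd _, sub_dvd _, sub_dvd _, sub_dvd _⟩) (by simp) (by simp only [List.map_cons, List.map_nil]; decide)
    simpa [num, mul_assoc] using h1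
  | E7 =>
    have h1 := key 18 [((p ^ c) ^ 2 - 1, 2), ((p ^ c) ^ 6 - 1, 6), ((p ^ c) ^ 8 - 1, 8), ((p ^ c) ^ 10 - 1, 10),
        ((p ^ c) ^ 12 - 1, 12), ((p ^ c) ^ 14 - 1, 14), ((p ^ c) ^ 18 - 1, 18)] hb (by
      simp only [List.forall_mem_cons, List.not_mem_nil, false_imp_iff, implies_true, and_true]
      exact ⟨sub_dvd _, sub_dvd _, sub_dvd _, sub_dvd _, sub_dvd _, sub_dvd _, sub_dvd _⟩) (by simp) (by simp only [List.map_cons, List.map_nil]; decide)
    simpa [num, mul_assoc] using h1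
  | E8 =>
    have h1 := key 30 [((p ^ c) ^ 2 - 1, 2), ((p ^ c) ^ 8 - 1, 8), ((p ^ c) ^ 12 - 1, 12), ((p ^ c) ^ 14 - 1, 14),
        ((p ^ c) ^ 18 - 1, 18), ((p ^ c) ^ 20 - 1, 20), ((p ^ c) ^ 24 - 1, 24), ((p ^ c) ^ 30 - 1, 30)] hb (by
      simp only [List.forall_mem_cons, List.not_mem_nil, false_imp_iff, implies_true, and_true]
      exact ⟨sub_dvd _, sub_dvd _, sub_dvd _, sub_dvd _, sub_dvd _, sub_dvd _, sub_dvd _, sub_dvd _⟩) (by simp)
      (by simp only [List.map_cons, List.map_nil]; decide)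
    simpa [num, mul_assoc] using h1
  | TE6 =>
    have h1 := key 18 [((p ^ c) ^ 2 - 1, 2), ((p ^ c) ^ 5 + 1, 2 * 5), ((p ^ c) ^ 6 - 1, 6), ((p ^ c) ^ 8 - 1, 8),
        ((p ^ c) ^ 9 + 1, 2 * 9), ((p ^ c) ^ 12 - 1, 12)] hb (by
      simp only [List.forall_mem_cons, List.not_mem_nil, false_imp_iff, implies_true, and_true]
      exact ⟨sub_dvd _, add_dvd hp _, sub_dvd _, sub_dvd _, add_dvd hp _, sub_dvd _⟩) (by simp) (by simp only [List.map_cons, List.map_nil]; decide)
    simpa [num, mul_assoc] using h1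
  | TD4 =>
    have h1 := key 12 [((p ^ c) ^ 2 - 1, 2), ((p ^ c) ^ 6 - 1, 6), ((p ^ c) ^ 8 + (p ^ c) ^ 4 + 1, 12)] hb (by
      simp only [List.forall_mem_cons, List.not_mem_nil, false_imp_iff, implies_true, and_true]
      exact ⟨sub_dvd _, sub_dvd _, eight_dvd hp⟩) (by simp) (by simp only [List.map_cons, List.map_nil]; decide)
    simpa [num, mul_assoc] using h1
  | Sz =>
    have h1 := key 4 [(p ^ c - 1, 1), ((p ^ c) ^ 2 + 1, 2 * 2)] hb (by
      simp only [List.forall_mem_cons, List.not_mem_nil, false_imp_iff, implies_true, and_true]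
      exact ⟨sub_one_dvd, add_dvd hp _⟩) (by simp) (by simp only [List.map_cons, List.map_nil]; decide)
    simpa [num, mul_assoc] using h1
  | Ree =>
    have h1 := key 6 [(p ^ c - 1, 1), ((p ^ c) ^ 3 + 1, 2 * 3)] hb (by
      simp only [List.forall_mem_cons, List.not_mem_nil, false_imp_iff, implies_true, and_true]
      exact ⟨sub_one_dvd, add_dvd hp _⟩) (by simp) (by simp only [List.map_cons, List.map_nil]; decide)
    simpa [num, mul_assoc] using h1
  | TF4 =>
    have h1 := key 12 [(p ^ c - 1, 1), ((p ^ c) ^ 3 + 1, 2 * 3), ((p ^ c) ^ 4 - 1, 4), ((p ^ c) ^ 6 + 1, 2 * 6)] hb (by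
      simp only [List.forall_mem_cons, List.not_mem_nil, false_imp_iff, implies_true, and_true]
      exact ⟨sub_one_dvd, add_dvd hp _, sub_dvd _, add_dvd hp _⟩) (by simp) (by simp only [List.map_cons, List.map_nil]; decide)
    simpa [num, mul_assoc] using h1

end Cfsg.Agent.H109.O8
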