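import Cfsg.Agent.H109.O8.Named
import Cfsg.Agent.H109.O8.Num
import Cfsg.Agent.CpQuot.Congr
import Cfsg.Agent.H915.LD

/-!
# `PΩ⁺₈(q)`: almost simple subgroups with socle of Lie type in characteristic `p` (helper109; stub R1 of helper708, S2499)

`own_card_lie` : `r ^ (b + 1)` does not divide `|R|`, `R` a proper subgroup with a normal simple subgroup `S` of Lie type in
characteristic `p`, `C_R(S) = 1`; `own_card` : the form of the stub.
-/

set_option autoImplicit false

namespace Cfsg.Agent.H109.O8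

open Cfsg Cfsg.Geo Cfsg.Agent.H902 Cfsg.Agent.H902.Art Cfsg.Agent.H708.O8 Cfsg.Agent.H915.LD Cfsg.Agent.H884.El
open Cfsg.Agent.H436 (Prim exists_prim)
open Cfsg.Agent.H915.GN (HasChar)
open Cfsg.Agent.H902.Names
open scoped MatrixGroups

variable {p a r b c M N : ℕ} {X : Art.Sh}

theorem five_le (h : RB p a r b) : 5 ≤ r := by
  rcases h.cases with h1 | h1 | h1 <;> omega

/-- `r` does not divide the order of the centre divided out -/
theorem dd_not_dvd (h : RB p a r b) (hT : Art.Real (.D 4) p a N) (hX : Art.Real X p c M) (hd : M ∣ N) :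
    ¬ r ∣ dd X (p ^ c) := by
  intro hr
  have hb := bound hT hX hd
  have h5 := five_le h
  have ha := h.ha
  have hc := hX.hf
  have hok := hX.ok
  have h4 : ∀ {x y : ℕ}, x ≤ 4 → 0 < x → r ∣ Nat.gcd x y → False := fun h1 h2 h3 => by
    have := Nat.le_of_dvd h2 (h3.trans (Nat.gcd_dvd_left _ _))
    omega
  cases X
  case L n =>
    have hn : 2 ≤ n := hok.1
    have hd' : r ∣ Nat.gcd n (p ^ c - 1) := hr
    have h6 := Nat.le_of_dvd (by omega) ((h.prim.dvd_iff _).1 (hd'.trans (Nat.gcd_dvd_right _ _)))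
    have h7 : c * 2 ≤ c * n := Nat.mul_le_mul_left _ hn
    have h8 : c * n ≤ 6 * a := hb
    omega
  case U n =>
    have hn : 3 ≤ n := hok.1
    have hd' : r ∣ Nat.gcd n (p ^ c + 1) := hr
    have h6 : r ∣ p ^ (c * (2 * 1)) - 1 := by
      refine (hd'.trans (Nat.gcd_dvd_right _ _)).trans ?_
      have := add_dvd (c := c) h.hp 1
      rwa [pow_one] at this
    have h7 := Nat.le_of_dvd (by omega) ((h.prim.dvd_iff _).1 h6)
    have h8 : 6 ≤ DM (.U n) := by
      show 6 ≤ (if Even n then 2 * (n - 1) else 2 * n)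
      split_ifs with h9
      · have : n ≠ 3 := by rintro rfl; exact absurd h9 (by decide)
        omega
      · omega
    have h9 : c * 6 ≤ c * DM (.U n) := Nat.mul_le_mul_left _ h8
    omega
  case C m => exact h4 (by norm_num) (by norm_num) hr
  case D m => exact h4 (by norm_num) (by norm_num) hr
  case DD m => exact h4 (by norm_num) (by norm_num) hr
  case E6 => exact h4 (by norm_num) (by norm_num) hr
  case E7 => exact h4 (by norm_num) (by norm_num) hr
  case TE6 => exact h4 (by norm_num) (by norm_num) hr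
  all_goals
    have h6 : r ∣ 1 := hr
    exact absurd (Nat.dvd_one.1 h6) (by omega)

/-- `r` is larger than the field exponent -/
theorem exp_lt (h : RB p a r b) (hT : Art.Real (.D 4) p a N) (hX : Art.Real X p c M) (hd : M ∣ N) : c < r := by
  have hb := bound hT hX hd
  have h2 := (DM_ge hX).1
  have h3 : c * 2 ≤ c * DM X := Nat.mul_le_mul_left _ h2
  have h4 : 4 * a < r := by
    have h5 : 4 * a ∣ r - 1 := by
      rw [← h.prim.dvd_iff]
      have hr := h.prim.prime
      have : Fact r.Prime := ⟨hr⟩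
      have hne : (p : ZMod r) ≠ 0 := by
        rw [Ne, ZMod.natCast_eq_zero_iff]
        exact h.prim.not_dvd
      have h6 := ZMod.pow_card_sub_one_eq_one hne
      have h7 : ((p ^ (r - 1) - 1 : ℕ) : ZMod r) = 0 := by
        rw [Nat.cast_sub (Nat.one_le_pow _ _ h.hp.pos), Nat.cast_pow, h6, Nat.cast_one, sub_self]
      exact (ZMod.natCast_eq_zero_iff _ _).1 h7
    have := Nat.le_of_dvd (by have := h.prim.prime.two_le; omega) h5
    have := h.prim.prime.two_le
    omega
  omega

theorem own_card_lie {F : Type} [Field F] [Fintype F] (hF : Nat.card F = p ^ a) (h : RB p a r b)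
    {R : Subgroup (T8 F)} (hR : R ≠ ⊤) (S : Subgroup R) [S.Normal] (hS : IsSimpleGroup S) (hna : ¬ IsMulCommutative S)
    (hC : Subgroup.centralizer (S : Set R) = ⊥) (hL : IsLieTypeChar p S) : ¬ r ^ (b + 1) ∣ Nat.card R := by
  have hp := h.hp
  have ha := h.ha
  have hr := h.prim.prime
  have hT : Art.Real (.D 4) p a (Nat.card (T8 F)) :=
    oplus_real hp ha (by rw [← Nat.card_eq_fintype_card, hF]) le_rfl
  obtain ⟨g, hn, hch⟩ := exists_named hp hL
  obtain ⟨X, c, hlie, hX, -⟩ := H264.FKS.exists_lie hp hn hch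
  have hSR : Nat.card S ∣ Nat.card R := Subgroup.card_subgroup_dvd_card S
  have hRT : Nat.card R ∣ Nat.card (T8 F) := Subgroup.card_subgroup_dvd_card R
  intro hd
  have h1 := hd.trans (H264.FKS.dvd_aut S hC)
  rw [← H934.OutB.card_out_mul S hna] at h1
  have h2 : ¬ r ∣ Nat.card (Cfsg.Out S) := by
    intro h2
    obtain ⟨k, h4, h6, -⟩ := H364.OutLie.card_out (H264.FKS.not_comm hna) hlie hn.real hX
    rw [h4] at h2
    rcases hr.dvd_mul.1 h2 with h7 | h7
    · rcases hr.dvd_mul.1 (h7.trans h6) with h8 | h8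
      · have h9 : r ∣ 2 ^ 3 * 3 := h8
        have h5 := five_le h
        rcases hr.dvd_mul.1 h9 with h10 | h10
        · have := Nat.le_of_dvd (by norm_num) (hr.dvd_of_dvd_pow h10)
          omega
        · have := Nat.le_of_dvd (by norm_num) h10
          omega
      · exact dd_not_dvd h hT hX (hSR.trans hRT) h8
    · have := Nat.le_of_dvd hX.hf h7
      have := exp_lt h hT hX (hSR.trans hRT)
      omega
  have h3 : r ^ (b + 1) ∣ Nat.card S :=
    (Nat.Coprime.pow_left _ ((Nat.Prime.coprime_iff_not_dvd hr).2 h2)).dvd_of_dvd_mul_left h1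
  by_cases hne : X = .D 4 ∧ c = a
  · obtain ⟨rfl, rfl⟩ := hne
    have h4 : Nat.card S = Nat.card (T8 F) := by
      have h5 := hX.eq.trans hT.eq.symm
      have h6 : 0 < dd (.D 4) (p ^ c) := Nat.gcd_pos_of_pos_left _ (by norm_num)
      exact Nat.eq_of_mul_eq_mul_left h6 h5
    apply hR
    apply Subgroup.eq_top_of_card_eq
    apply Nat.dvd_antisymm hRT
    rw [← h4]
    exact hSR
  · apply num_not_dvd h hT hX (hSR.trans hRT) hne
    have h4 : r ^ (b + 1) ∣ (p ^ c) ^ NN X * Art.num X (p ^ c) := by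
      rw [← hX.eq]
      exact h3.mul_left _
    refine (Nat.Coprime.pow_left _ ((Nat.Prime.coprime_iff_not_dvd hr).2 fun h5 => ?_)).dvd_of_dvd_mul_left h4
    exact h.prim.not_dvd (hr.dvd_of_dvd_pow (hr.dvd_of_dvd_pow h5))

/-- **R1: own characteristic** -/
theorem own_card {F : Type} [Field F] [Fintype F] (hF : Nat.card F = p ^ a) (h : RB p a r b)
    {R : Subgroup (T8 F)} (hR : R ≠ ⊤) (S : Subgroup R) [S.Normal] (hS : IsSimpleGroup S) (hna : ¬ IsMulCommutative S)
    (hC : Subgroup.centralizer (S : Set R) = ⊥) {P : Subgroup (GL I8 F)}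
    (_hP : IsResidualCore (pre (quadFormPlus 4 F) R) P) (e : S ≃* Soc P) (hL : IsLieTypeChar p (Soc P)) :
    ¬ r ^ (b + 1) ∣ Nat.card R :=
  own_card_lie hF h hR S hS hna hC ((CpQuot.Congr.isLieTypeChar_iff e p).2 hL)

end Cfsg.Agent.H109.O8
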