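import Cfsg.Agent.H105.O8.Cross
import Cfsg.Agent.H936.List12c
import Cfsg.Agent.H4.JT.Two

/-!
# COV-O8+ (S2499), `q = 2`: stub R3 `small_two` (helper109)

* `alt_conj` : `R` with a normal subgroup `S ≅ A₁₀`, `C_R(S) = 1`, `x, y ∈ R` of order 15 or 20: the elements
  `x ^ (|x| / 5)` and `y ^ (|y| / 5)` are conjugate (they are five-cycles);
* `small_two` : a subgroup of `Ω₈⁺(2)` with a residual core of order divisible by 25 has socle `A₁₀` (`J₂` has no irreducible
  representation of degree 8 in characteristic two).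
-/

set_option autoImplicit false

namespace Cfsg.Agent.H109.O8

open Cfsg Cfsg.Geo Cfsg.Agent.OrdDiv Cfsg.Agent.H436 Cfsg.Agent.H264.FKS Cfsg.Agent.H902
open Cfsg.Agent.H902.Names Cfsg.Agent.H708.O8 Cfsg.Agent.H915.LD Cfsg.Agent.H884.El Cfsg.Agent.H936.List12
open Cfsg.Agent.H912.Bd Cfsg.Agent.H912.Five
open scoped MatrixGroups Matrix

universe u

/-! ### five-cycles -/

/-- an element of order 15 or 20 of `S₁₀` is a five-cycle times an element on the other points -/
theorem five_cycle {x : Equiv.Perm (Fin 10)} (h : orderOf x = 15 ∨ orderOf x = 20) :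
    (x ^ (orderOf x / 5)).cycleType = {5} := by
  have h5 : 5 ∣ orderOf x := by rcases h with h | h <;> rw [h] <;> norm_num
  have hne : orderOf x ≠ 0 := by rcases h with h | h <;> rw [h] <;> norm_num
  have ho : orderOf (x ^ (orderOf x / 5)) = 5 := orderOf_pow_orderOf_div hne h5
  obtain ⟨n, hn⟩ := Equiv.Perm.cycleType_prime_order (by rw [ho]; norm_num : (orderOf (x ^ (orderOf x / 5))).Prime)
  rw [ho] at hn
  have h1 : (x ^ (orderOf x / 5)).cycleType.sum ≤ 10 := by
    rw [Equiv.Perm.sum_cycleType]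
    exact (Finset.card_le_univ _).trans (by rw [Fintype.card_fin])
  rw [hn, Multiset.sum_replicate, smul_eq_mul] at h1
  have h2 : n = 0 ∨ n = 1 := by omega
  rcases h2 with rfl | rfl
  · rw [hn]
    rfl
  · exfalso
    have h3 := Equiv.Perm.nat_card_centralizer (x ^ (orderOf x / 5))
    rw [hn] at h3
    have h4 : Nat.card (Subgroup.centralizer ({x ^ (orderOf x / 5)} : Set (Equiv.Perm (Fin 10)))) = 50 := by
      rw [h3]
      decide
    have h6 : x ∈ Subgroup.centralizer ({x ^ (orderOf x / 5)} : Set (Equiv.Perm (Fin 10))) := by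
      rw [Subgroup.mem_centralizer_singleton_iff]
      exact ((Commute.refl x).pow_right (orderOf x / 5)).eq
    have h7 : orderOf x ∣ 50 := by
      rw [← h4]
      exact Subgroup.orderOf_dvd_natCard _ h6
    rcases h with h | h <;> rw [h] at h7 <;> norm_num at h7

theorem alt_conj {R : Type u} [Group R] (S : Subgroup R) [S.Normal]
    (hC : Subgroup.centralizer (S : Set R) = ⊥) (e : S ≃* alternatingGroup (Fin 10)) {x y : R}
    (hx : orderOf x = 15 ∨ orderOf x = 20) (hy : orderOf y = 15 ∨ orderOf y = 20) :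
    ∃ c : R, c * x ^ (orderOf x / 5) * c⁻¹ = y ^ (orderOf y / 5) := by
  let E : Equiv.Perm (Fin 10) ≃* MulAut (alternatingGroup (Fin 10)) :=
    MulEquiv.ofBijective _ (S2119.result 10 (by norm_num) (by norm_num))
  let f : R →* Equiv.Perm (Fin 10) :=
    (E.symm.toMonoidHom.comp (MulAut.congr e).toMonoidHom).comp (MulAut.conjNormal : R →* MulAut S)
  have hf : ∀ r : R, E (f r) = MulAut.congr e (MulAut.conjNormal r) := fun r => E.apply_symm_apply _
  have hinj : Function.Injective f := by
    rw [injective_iff_map_eq_one]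
    intro r hr
    have h1 : (MulAut.conjNormal r : MulAut S) = 1 := by
      apply (MulAut.congr e).injective
      rw [← hf, hr, map_one, map_one]
    rw [← Subgroup.mem_bot, ← hC, Subgroup.mem_centralizer_iff]
    intro s hs
    have h2 := congrArg Subtype.val (DFunLike.congr_fun h1 ⟨s, hs⟩)
    rw [MulAut.conjNormal_apply, MulAut.one_apply] at h2
    exact (mul_inv_eq_iff_eq_mul.1 h2).symm
  have hS : ∀ s : S, f s = (e s : Equiv.Perm (Fin 10)) := by
    intro s
    apply E.injective
    rw [hf]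
    have h1 : E (e s : Equiv.Perm (Fin 10)) = MulAut.conjNormal (e s : Equiv.Perm (Fin 10)) := rfl
    rw [h1]
    ext1 z
    apply Subtype.ext
    have h2 : MulAut.congr e (MulAut.conjNormal (s : R)) z = e (MulAut.conjNormal (s : R) (e.symm z)) := rfl
    rw [h2, MulAut.conjNormal_apply]
    have h3 : (MulAut.conjNormal (s : R) (e.symm z) : S) = s * e.symm z * s⁻¹ := by
      apply Subtype.ext
      rw [MulAut.conjNormal_apply]
      rfl
    rw [h3, map_mul, map_mul, map_inv, e.apply_symm_apply]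
    rfl
  have hox : orderOf (f x) = orderOf x := orderOf_injective f hinj x
  have hoy : orderOf (f y) = orderOf y := orderOf_injective f hinj y
  have hcx := five_cycle (x := f x) (by rw [hox]; exact hx)
  have hcy := five_cycle (x := f y) (by rw [hoy]; exact hy)
  rw [hox] at hcx
  rw [hoy] at hcy
  have hs : ∀ σ : Equiv.Perm (Fin 10), σ.cycleType = {5} → σ ∈ alternatingGroup (Fin 10) := by
    intro σ h
    rw [Equiv.Perm.mem_alternatingGroup, Equiv.Perm.sign_of_cycleType, h]
    decide
  have h1 : IsConj (⟨f x ^ (orderOf x / 5), hs _ hcx⟩ : alternatingGroup (Fin 10)) ⟨f y ^ (orderOf y / 5), hs _ hcy⟩ := by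
    refine alternatingGroup.isConj_of ?_ ?_
    · rw [Equiv.Perm.isConj_iff_cycleType_eq]
      exact hcx.trans hcy.symm
    · change (f x ^ (orderOf x / 5)).support.card + 2 ≤ _
      rw [← Equiv.Perm.sum_cycleType, hcx]
      decide
  obtain ⟨c, hc⟩ := isConj_iff.1 h1
  refine ⟨(e.symm c : R), hinj ?_⟩
  rw [map_mul, map_mul, map_inv, map_pow, map_pow, hS, e.apply_symm_apply]
  exact congrArg Subtype.val hc

/-! ### the candidates -/

section
variable {S : Type u} [Group S] [Finite S] [IsSimpleGroup S]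

theorem not_L (hna : ¬ IsMulCommutative S) {n p f q : ℕ} (hp : p.Prime) (hf : 1 ≤ f) (hq : p ^ f = q) (hn : 2 ≤ n)
    (hn2 : n = 2 → 4 ≤ p ^ f) (h : IsL n q S)
    (hB : ¬ 25 ∣ 24 * f * ((p ^ f) ^ (n * (n - 1) / 2) * ∏ i ∈ Finset.range (n - 1), ((p ^ f) ^ (i + 2) - 1))) :
    ¬ 25 ∣ Nat.card (MulAut S) := by
  subst hq
  obtain ⟨K, iK, iKf, hK, ⟨e⟩⟩ := h
  intro h25
  refine hB (h25.trans (H105.O8.lie_dvd hna (.psl n p f) ⟨K, iK, iKf, hK, ⟨e⟩⟩ ?_))
  rw [Nat.card_congr e.toEquiv]
  exact psl_real hp hf hK hn hn2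

theorem not_U (hna : ¬ IsMulCommutative S) {n p f q : ℕ} (hp : p.Prime) (hf : 1 ≤ f) (hq : p ^ f = q) (hn : 3 ≤ n)
    (hn2 : ¬ (n = 3 ∧ p ^ f = 2)) (h : IsU n q S)
    (hB : ¬ 25 ∣ 24 * f * ((p ^ f) ^ (n * (n - 1) / 2) *
      ∏ i ∈ Finset.range (n - 1), (if Even i then (p ^ f) ^ (i + 2) - 1 else (p ^ f) ^ (i + 2) + 1))) :
    ¬ 25 ∣ Nat.card (MulAut S) := by
  subst hq
  obtain ⟨K, iK, iKf, hK, ⟨e⟩⟩ := h
  intro h25
  refine hB (h25.trans (H105.O8.lie_dvd hna (.psu n p f) ⟨K, iK, iKf, hK, ⟨e⟩⟩ ?_))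
  rw [Nat.card_congr e.toEquiv]
  exact psu_real hp hf hK hn hn2

omit [Finite S] [IsSimpleGroup S] in
theorem not_A {m : ℕ} (h5 : 5 ≤ m) (h9 : m ≤ 9) (e : S ≃* alternatingGroup (Fin m)) :
    ¬ 25 ∣ Nat.card (MulAut S) := by
  rw [Nat.card_congr (MulAut.congr e).toEquiv]
  by_cases h6 : m = 6
  · subst h6
    rw [H824.ProdLem.card_aut_a6]
    norm_num
  · rw [← Nat.card_congr (Equiv.ofBijective _ (S2119.result m (by omega) h6)), Nat.card_eq_fintype_card,
      Fintype.card_perm, Fintype.card_fin]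
    intro h
    exact absurd (h.trans (Nat.factorial_dvd_factorial h9)) (by decide)

theorem not_spor (hna : ¬ IsMulCommutative S) (hs : IsSporadicGroup S) {x : Grp × ℕ} (hx : x ∈ OrdDiv.spor)
    (hr : OrdDiv.Real x.1 S) (hB : ¬ 25 ∣ 2 * x.2) : ¬ 25 ∣ Nat.card (MulAut S) := by
  have h1 := OrdDiv.table.spor S x hx hr
  have h2 : Nat.card (Cfsg.Out S) ≤ 2 := H498.SporOut.index_le_two hs
  have h3 : 0 < Nat.card (Cfsg.Out S) := Nat.card_pos
  rw [← H934.OutB.card_out_mul S hna, h1]
  intro h
  refine hB (h.trans (Nat.mul_dvd_mul ?_ (dvd_refl _)))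
  interval_cases Nat.card (Cfsg.Out S) <;> norm_num

/-- the candidates with `25 ∣ |Aut S|` -/
theorem cand (hna : ¬ IsMulCommutative S) (h : CandD 2 8 S) (h25 : 25 ∣ Nat.card (MulAut S)) :
    Nonempty (S ≃* alternatingGroup (Fin 10)) ∨ Spor.IsoJ2 S ∨ 11 ∣ Nat.card S := by
  rcases h with h | h | h | h | h
  · obtain ⟨m, h5, h14, h12, -, -, ⟨e⟩⟩ := h
    have h11 : m ≤ 11 := by
      by_contra hc
      have := h12 (by norm_num) (by omega)
      omega
    by_cases h9 : m ≤ 9
    · exact absurd h25 (not_A h5 h9 e)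
    · by_cases h10 : m = 10
      · subst h10
        exact Or.inl ⟨e⟩
      · have hm : m = 11 := by omega
        subst hm
        refine Or.inr (Or.inr ?_)
        rw [Nat.card_congr e.toEquiv, nat_card_alternatingGroup, Nat.card_eq_fintype_card, Fintype.card_fin]
        decide
  · exfalso
    rcases h with ⟨q, hq, h1, h2, h3⟩ | ⟨-, -, h⟩ | ⟨-, -, h⟩ | ⟨h, -⟩ | ⟨h, -⟩ | ⟨h, -⟩ | ⟨-, h, -⟩ | ⟨h, -⟩ | ⟨h, -⟩
    · revert h25
      simp only [Finset.mem_insert, Finset.mem_singleton] at hq
      rcases hq with rfl | rfl | rfl | rfl | rfl | rfl | rfl | rfl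
      · exact not_L hna (p := 7) (f := 1) (by norm_num) le_rfl (by norm_num) le_rfl (fun _ => by norm_num) h3
          (by simp only [Finset.prod_range_succ, Finset.prod_range_zero]; norm_num)
      · exact absurd (by norm_num) h1
      · exact not_L hna (p := 11) (f := 1) (by norm_num) le_rfl (by norm_num) le_rfl (fun _ => by norm_num) h3
          (by simp only [Finset.prod_range_succ, Finset.prod_range_zero]; norm_num)
      · exact not_L hna (p := 13) (f := 1) (by norm_num) le_rfl (by norm_num) le_rfl (fun _ => by norm_num) h3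
          (by simp only [Finset.prod_range_succ, Finset.prod_range_zero]; norm_num)
      · exact not_L hna (p := 17) (f := 1) (by norm_num) le_rfl (by norm_num) le_rfl (fun _ => by norm_num) h3
          (by simp only [Finset.prod_range_succ, Finset.prod_range_zero]; norm_num)
      · norm_num at h2
      · norm_num at h2
      · norm_num at h2
    · exact not_L hna (p := 3) (f := 1) (by norm_num) le_rfl (by norm_num) (by norm_num) (by norm_num) h
        (by simp only [Finset.prod_range_succ, Finset.prod_range_zero]; norm_num) h25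
    · exact not_U hna (p := 3) (f := 1) (by norm_num) le_rfl (by norm_num) le_rfl (by norm_num) h
        (by simp [Finset.prod_range_succ]) h25
    · exact absurd rfl h
    · exact absurd rfl h
    · exact absurd rfl h
    · omega
    · exact absurd rfl h
    · exact absurd rfl h
  · rcases h with ⟨h, -⟩ | ⟨-, h, -⟩
    · exact absurd rfl h
    · omega
  · exact absurd rfl h.1
  · have hs : IsSporadicGroup S := by
      unfold SporC at h
      unfold IsSporadicGroup
      tauto
    rcases h with h | h | h | h | h | h | h | h | h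
    · exact absurd h25 (not_spor hna hs (x := (.m11, 7920)) (by simp [spor]) h (by norm_num))
    · exact absurd h25 (not_spor hna hs (x := (.m12, 95040)) (by simp [spor]) h (by norm_num))
    · exact absurd h25 (not_spor hna hs (x := (.m22, 443520)) (by simp [spor]) h (by norm_num))
    · exact absurd h25 (not_spor hna hs (x := (.m23, 10200960)) (by simp [spor]) h (by norm_num))
    · exact absurd h25 (not_spor hna hs (x := (.m24, 244823040)) (by simp [spor]) h (by norm_num))
    · exact absurd h25 (not_spor hna hs (x := (.j1, 175560)) (by simp [spor]) h (by norm_num))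
    · exact Or.inr (Or.inl h)
    · exact absurd h25 (not_spor hna hs (x := (.j3, 50232960)) (by simp [spor]) h (by norm_num))
    · refine Or.inr (Or.inr ?_)
      rw [OrdDiv.table.spor S (.suz, 448345497600) (by simp [spor]) h]
      norm_num

end

/-! ### the stub -/

section
variable {F : Type} [Field F] [Fintype F]

theorem eleven_not_dvd (hF : Nat.card F = 2) : ¬ 11 ∣ Nat.card (T8 F) := by
  have hT : Art.Real (.D 4) 2 1 (Nat.card (T8 F)) :=
    oplus_real Nat.prime_two le_rfl (by rw [← Nat.card_eq_fintype_card, hF, pow_one]) le_rfl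
  intro h
  have h1 : 11 ∣ (2 ^ 1) ^ Art.NN (.D 4) * Art.num (.D 4) (2 ^ 1) := by
    rw [← hT.eq]
    exact h.mul_left _
  revert h1
  decide

/-- **R3: `q = 2`** -/
theorem small_two (hF : Nat.card F = 2)
    {R : Subgroup (T8 F)} (S : Subgroup R) [S.Normal] (_hS : IsSimpleGroup S) (_hna : ¬ IsMulCommutative S)
    (hC : Subgroup.centralizer (S : Set R) = ⊥) {P : Subgroup (GL H708.O8.I8 F)}
    (hP : IsResidualCore (pre (quadFormPlus 4 F) R) P) (e : S ≃* Soc P) (hL : ¬ IsLieTypeChar 2 (Soc P))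
    {x y : T8 F} (hx : x ∈ R) (hy : y ∈ R) (ox : orderOf x = 15) (oy : orderOf y = 15)
    (sep : ∀ (c : T8 F) (j : ℤ), c * (x ^ 3) ^ j * c⁻¹ ≠ y ^ 3) (h25 : 25 ∣ Nat.card R)
    (hk : IsKnownSimple' (Soc P)) : False := by
  have hF2 : CharP F 2 := H105.O8.charP_of Nat.prime_two le_rfl (by rw [hF, pow_one])
  have hp2 : Fact (Nat.Prime 2) := ⟨Nat.prime_two⟩
  have hCo := core_of_residual hP
  have hcard : Fintype.card H708.O8.I8 = 8 := by decide
  have hSR : Nat.card S ∣ Nat.card R := Subgroup.card_subgroup_dvd_card S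
  have hRT : Nat.card R ∣ Nat.card (T8 F) := Subgroup.card_subgroup_dvd_card R
  have h1 : CandD 2 8 (Soc P) := by
    have h := H936.List12.list (p := 2) (by rw [hcard]; norm_num) hCo hk hL
    rwa [hcard] at h
  have h2 : 25 ∣ Nat.card (MulAut (Soc P)) := by
    rw [← Nat.card_congr (MulAut.congr e).toEquiv]
    exact h25.trans (dvd_aut S hC)
  have hsim : IsSimpleGroup (Soc P) := hCo.simple
  rcases cand hCo.nonabelian h1 h2 with h | h | h
  · obtain ⟨f⟩ : Nonempty (Soc P ≃* alternatingGroup (Fin 10)) := h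
    obtain ⟨c, hc⟩ := alt_conj S hC (e.trans f) (x := ⟨x, hx⟩) (y := ⟨y, hy⟩)
      (by rw [Subgroup.orderOf_mk]; exact Or.inl ox) (by rw [Subgroup.orderOf_mk]; exact Or.inl oy)
    rw [Subgroup.orderOf_mk, Subgroup.orderOf_mk, ox, oy] at hc
    have h3 := congrArg Subtype.val hc
    refine sep c 1 ?_
    rw [zpow_one]
    exact h3
  · let ix : H708.O8.I8 ≃ Fin 8 := finSumFinEquiv
    have hC' := H936.Reix.core_rx ix hCo
    have e' := H936.Reix.socEquiv ix P
    have hb : (scalars (Fin 8) F).subgroupOf (H936.Reix.rx ix P) = ⊥ := by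
      rw [eq_bot_iff]
      intro z hz
      rw [Subgroup.mem_subgroupOf, mem_scalars_iff] at hz
      obtain ⟨c, hc⟩ := hz
      have hc1 : (c : F) = 1 := by
        have h4 : (c : F) ^ (Fintype.card F - 1) = 1 := FiniteField.pow_card_sub_one_eq_one _ c.ne_zero
        rwa [← Nat.card_eq_fintype_card, hF, pow_one] at h4
      rw [Subgroup.mem_bot]
      apply Subtype.ext
      apply Units.ext
      rw [hc, hc1, one_smul]
      rfl
    obtain ⟨f⟩ := h
    have hJ : Spor.IsoJ2 (H936.Reix.rx ix P) :=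
      ⟨(((QuotientGroup.quotientBot (G := H936.Reix.rx ix P)).symm.trans
        (QuotientGroup.quotientMulEquivOfEq hb.symm)).trans e'.symm).trans f⟩
    refine H4.JT.j2_two_eight_irr hJ (Or.inr rfl) (H936.Reix.rx ix P).subtype ?_
    rw [Subgroup.range_subtype]
    exact hC'.absIrred.1
  · exact eleven_not_dvd hF ((h.trans (by rw [Nat.card_congr e.symm.toEquiv]; exact hSR)).trans hRT)

end

end Cfsg.Agent.H109.O8
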